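import Mathlib.Algebra.Homology.SpectralObject.Basic
import Mathlib.CategoryTheory.Triangulated.SpectralObject
import Mathlib.CategoryTheory.Triangulated.HomologicalFunctor

/-!
The abelian spectral object obtained from a triangulated one by a homological functor.
-/

set_option autoImplicit false

universe v v' v'' u u' u''

open CategoryTheory CategoryTheory.Limits CategoryTheory.Pretriangulated ComposableArrows

namespace Groth.Agent.SpObj

variable {C : Type u} [Category.{v} C] [Preadditive C] [HasZeroObject C] [HasShift C ℤ]
  [∀ n : ℤ, (shiftFunctor C n).Additive] [Pretriangulated C]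
  {A : Type u'} [Category.{v'} A] [Abelian A]
  {ι : Type u''} [Category.{v''} ι]

/-- Applying a homological functor to a spectral object. -/
noncomputable def mapHomological (X : Triangulated.SpectralObject C ι) (F : C ⥤ A)
    [F.IsHomological] [F.ShiftSequence ℤ] : Abelian.SpectralObject A ι where
  H n := X.ω₁ ⋙ F.shift n
  δ' n₀ n₁ h :=
    { app := fun D => F.homologySequenceδ (X.ω₂.obj D) n₀ n₁ h
      naturality := fun _ _ φ =>
        F.homologySequenceδ_naturality _ _ (X.ω₂.map φ) n₀ n₁ h }
  exact₁' n₀ n₁ h D :=
    (F.homologySequence_exact₁ _ (X.ω₂_obj_distinguished D) n₀ n₁ h).exact_toComposableArrows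
  exact₂' n D :=
    (F.homologySequence_exact₂ _ (X.ω₂_obj_distinguished D) n).exact_toComposableArrows
  exact₃' n₀ n₁ h D :=
    (F.homologySequence_exact₃ _ (X.ω₂_obj_distinguished D) n₀ n₁ h).exact_toComposableArrows

theorem mapHomological_H_obj (X : Triangulated.SpectralObject C ι) (F : C ⥤ A)
    [F.IsHomological] [F.ShiftSequence ℤ] (n : ℤ) (D : ComposableArrows ι 1) :
    ((mapHomological X F).H n).obj D = (F.shift n).obj (X.ω₁.obj D) := rfl

end Groth.Agent.SpObj
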