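import Groth.Agent.Lib.SpObj.Abutment
import Groth.Agent.Lib.SpObj.Homology
import Groth.Agent.Lib.RFPlus.Triangulated
import Groth.Agent.Lib.RFPlus.Adapted
import Mathlib.CategoryTheory.Triangulated.TStructure.SpectralObject
import Mathlib.Algebra.Homology.DerivedCategory.FullyFaithful

/-!
The spectral sequence of a bounded below object and a derived functor.
-/

set_option autoImplicit false

universe w w' v v' u u'

open CategoryTheory CategoryTheory.Limits ComposableArrows
open CategoryTheory.Abelian CategoryTheory.Triangulated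

namespace Groth.Agent.SpObj

variable {C : Type u} [Category.{v} C] [Abelian C] [HasDerivedCategory.{w} C]

/-- The spectral object of the cohomology of the truncations of `X`. -/
noncomputable abbrev cohObj (X : DerivedCategory.Plus C) : Abelian.SpectralObject C EInt :=
  mapHomological (DerivedCategory.Plus.TStructure.t.spectralObject X)
    (DerivedCategory.Plus.homologyFunctor C 0)

theorem isZero_cohObj_of_le (X : DerivedCategory.Plus C) (a b : EInt) (h : a ≤ b) (m : ℤ)
    (hb : b ≤ (m : EInt)) : IsZero (((cohObj X).H m).obj (mk₁ (homOfLE h))) := by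
  have : DerivedCategory.Plus.TStructure.t.IsLE
      ((DerivedCategory.Plus.TStructure.t.eTruncLT.obj b).obj X) (m - 1) :=
    DerivedCategory.Plus.TStructure.t.isLE_eTruncLT_obj_obj (m - 1) b
      (by rwa [sub_add_cancel]) X
  exact DerivedCategory.Plus.isZero_homology_of_isLE
    ((DerivedCategory.Plus.TStructure.t.eTruncGE.obj a).obj
      ((DerivedCategory.Plus.TStructure.t.eTruncLT.obj b).obj X)) (m - 1) m (by omega)

theorem isGE_trunc_of_lt (X : DerivedCategory.Plus C) (a : EInt) (m : ℤ) (ha : (m : EInt) < a) :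
    DerivedCategory.Plus.IsGE ((DerivedCategory.Plus.TStructure.t.eTruncGE.obj a).obj X) (m + 1) := by
  refine DerivedCategory.Plus.TStructure.t.isGE_eTruncGE_obj_obj (m + 1) a ?_ X
  induction a using WithBotTop.rec with
  | bot => simp at ha
  | coe i => simp only [WithBotTop.coe_lt_coe] at ha; simp only [WithBotTop.coe_le_coe]; omega
  | top => simp

theorem isZero_cohObj_of_lt (X : DerivedCategory.Plus C) (a b : EInt) (h : a ≤ b) (m : ℤ)
    (ha : (m : EInt) < a) : IsZero (((cohObj X).H m).obj (mk₁ (homOfLE h))) :=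
  have := isGE_trunc_of_lt ((DerivedCategory.Plus.TStructure.t.eTruncLT.obj b).obj X) a m ha
  DerivedCategory.Plus.isZero_homology_of_isGE
    ((DerivedCategory.Plus.TStructure.t.eTruncGE.obj a).obj
      ((DerivedCategory.Plus.TStructure.t.eTruncLT.obj b).obj X)) (m + 1) m (by omega)

/-- The truncation in `[q, q+1)` has the cohomology of `X` in degree `q`. -/
theorem nonempty_homology_trunc_iso (X : DerivedCategory.Plus C) (q : ℤ) :
    Nonempty (((cohObj X).H q).obj (mk₁ (homOfLE (show (q : EInt) ≤ ((q + 1 : ℤ) : EInt) by simp))) ≅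
      (DerivedCategory.Plus.homologyFunctor C q).obj X) := by
  have h₁ := (cohObj X).isIso_H_map_twoδ₁Toδ₀' q (q + 1) rfl ⊥ (q : EInt) ((q + 1 : ℤ) : EInt)
    bot_le (by simp) (isZero_cohObj_of_le X _ _ _ _ le_rfl)
    (isZero_cohObj_of_le X _ _ _ _ (by simp))
  have h₂ : IsIso (toEnd (cohObj X) q ⊥ ((q + 1 : ℤ) : EInt) ⊤ bot_le le_top) := by
    have : Mono (toEnd (cohObj X) q ⊥ ((q + 1 : ℤ) : EInt) ⊤ bot_le le_top) :=
      ((cohObj X).exact₁ (homOfLE bot_le) (homOfLE le_top) _ rfl (q - 1) q).mono_g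
        ((isZero_cohObj_of_lt X _ _ le_top _ (by simp only [WithBotTop.coe_lt_coe]; omega)).eq_of_src _ _)
    have : Epi (toEnd (cohObj X) q ⊥ ((q + 1 : ℤ) : EInt) ⊤ bot_le le_top) :=
      ((cohObj X).exact₂ (homOfLE bot_le) (homOfLE le_top) _ rfl q).epi_f
        ((isZero_cohObj_of_lt X _ _ le_top _ (by simp)).eq_of_tgt _ _)
    exact isIso_of_mono_of_epi _
  exact ⟨(@asIso _ _ _ _ _ h₁).symm ≪≫ @asIso _ _ _ _ _ h₂⟩

variable [EnoughInjectives C] {D : Type u'} [Category.{v'} D] [Abelian D] [HasDerivedCategory.{w'} D]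
  (S : C ⥤ D) [S.Additive]

/-- The spectral object of `RS` applied to the truncations of `X`. -/
noncomputable abbrev derivedObj (X : DerivedCategory.Plus C) : Abelian.SpectralObject D EInt :=
  mapHomological ((DerivedCategory.Plus.TStructure.t.spectralObject X).mapTriangulatedFunctor
      S.rightDerivedFunctorPlus)
    (DerivedCategory.Plus.homologyFunctor D 0)

/-- `H^n RS` of an object of `D⁺`. -/
noncomputable abbrev RH (n : ℤ) : DerivedCategory.Plus C ⥤ D :=
  S.rightDerivedFunctorPlus ⋙ DerivedCategory.Plus.homologyFunctor D n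

instance isFirstQuadrant_derivedObj (X : DerivedCategory.Plus C) [X.IsGE 0] :
    (derivedObj S X).IsFirstQuadrant where
  isZero₁ i j hij hj n := Functor.map_isZero (RH S n)
    (Functor.map_isZero (DerivedCategory.Plus.TStructure.t.eTruncGE.obj i)
      (DerivedCategory.Plus.TStructure.t.isZero_eTruncLT_obj_obj X 0 j hj))
  isZero₂ i j hij n hi :=
    have := isGE_trunc_of_lt ((DerivedCategory.Plus.TStructure.t.eTruncLT.obj j).obj X) i n hi
    have := RFPlus.isGE_rightDerivedFunctorPlus S
      ((DerivedCategory.Plus.TStructure.t.eTruncGE.obj i).obj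
        ((DerivedCategory.Plus.TStructure.t.eTruncLT.obj j).obj X)) (n + 1)
    DerivedCategory.Plus.isZero_homology_of_isGE
      (S.rightDerivedFunctorPlus.obj ((DerivedCategory.Plus.TStructure.t.eTruncGE.obj i).obj
        ((DerivedCategory.Plus.TStructure.t.eTruncLT.obj j).obj X))) (n + 1) n (by omega)

/-- `Q` of a single complex is the single object. -/
noncomputable def singQIso (A : C) :
    DerivedCategory.Plus.Qh.obj ((HomotopyCategory.Plus.quotient C).obj (RFPlus.sing A)) ≅
      (DerivedCategory.Plus.singleFunctor C 0).obj A :=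
  DerivedCategory.Plus.ι.preimageIso ((DerivedCategory.quotientCompQhIso C).app _ ≪≫
    ((DerivedCategory.singleFunctorIsoCompQ C 0).app A).symm)

/-- `H^{p+q} RS (A[-q]) = R^p S A`. -/
noncomputable def RHSingleIso (A : C) (p q : ℤ) :
    (RH S (p + q)).obj ((DerivedCategory.Plus.singleFunctor C q).obj A) ≅
      (RFPlus.HR S p).obj (RFPlus.sing A) :=
  (((DerivedCategory.Plus.homologyFunctor D 0).shiftIso q p (p + q) (add_comm q p)).app
      (S.rightDerivedFunctorPlus.obj ((DerivedCategory.Plus.singleFunctor C q).obj A))).symm ≪≫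
    (DerivedCategory.Plus.homologyFunctor D p).mapIso
      ((S.rightDerivedFunctorPlus.commShiftIso q).symm.app _ ≪≫
        S.rightDerivedFunctorPlus.mapIso
          (((DerivedCategory.Plus.singleFunctors C).shiftIso q 0 q (add_zero q)).app A ≪≫
            (singQIso A).symm))

theorem exists_spectralSequence (X : DerivedCategory.Plus C) [X.IsGE 0] (H : ℤ → D)
    (e : ∀ n, Nonempty ((RH S n).obj X ≅ H n)) :
    ∃ (E : E₂CohomologicalSpectralSequence D) (a : SpSeq.Abutment E H),
      (∀ n, a.IsFinite n) ∧ SpSeq.IsBounded E ∧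
      (∀ p q : ℤ, p < 0 ∨ q < 0 → IsZero ((E.page 2 le_rfl).X (p, q))) ∧
      ∀ p q : ℤ, Nonempty ((E.page 2 le_rfl).X (p, q) ≅
        (RFPlus.HR S p).obj (RFPlus.sing ((DerivedCategory.Plus.homologyFunctor C q).obj X))) := by
  let Y := derivedObj S X
  let eH : ∀ n, (Y.H n).obj (mk₁ (homOfLE (bot_le : (⊥ : EInt) ≤ ⊤))) ⟶ H n := fun n => (e n).some.hom
  have heH : ∀ n, IsIso (eH n) := fun n => Iso.isIso_hom (e n).some
  obtain ⟨a, ha⟩ := exists_abutment Y eH
  refine ⟨Y.E₂SpectralSequence, a, ha, isBounded Y, fun p q h => isZero_page_X Y 2 le_rfl p q h,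
    fun p q => ?_⟩
  let Z := (DerivedCategory.Plus.TStructure.t.eTruncGE.obj (q : EInt)).obj
    ((DerivedCategory.Plus.TStructure.t.eTruncLT.obj ((q + 1 : ℤ) : EInt)).obj X)
  have : DerivedCategory.Plus.TStructure.t.IsLE
      ((DerivedCategory.Plus.TStructure.t.eTruncLT.obj ((q + 1 : ℤ) : EInt)).obj X) q :=
    DerivedCategory.Plus.TStructure.t.isLE_eTruncLT_obj_obj q _ le_rfl X
  have hLE : Z.IsLE q := inferInstanceAs (DerivedCategory.Plus.TStructure.t.IsLE _ q)
  have hGE : Z.IsGE q := DerivedCategory.Plus.TStructure.t.isGE_eTruncGE_obj_obj q _ le_rfl _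
  have : (DerivedCategory.Plus.ι.obj Z).IsLE q := (DerivedCategory.Plus.isLE_ι_obj_iff Z q).2 hLE
  obtain ⟨A, ⟨eA⟩⟩ := DerivedCategory.exists_iso_singleFunctor_obj_of_isGE_of_isLE
    (DerivedCategory.Plus.ι.obj Z) q
  obtain ⟨eq⟩ := nonempty_homology_trunc_iso X q
  have eq' : A ≅ (DerivedCategory.Plus.homologyFunctor C q).obj X :=
    ((DerivedCategory.singleFunctorCompHomologyFunctorIso C q).app A).symm ≪≫
      (DerivedCategory.homologyFunctor C q).mapIso eA.symm ≪≫ eq
  exact ⟨pageTwoIso Y p q ≪≫ (RH S (p + q)).mapIso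
    (DerivedCategory.Plus.ι.preimageIso eA : Z ≅ (DerivedCategory.Plus.singleFunctor C q).obj A) ≪≫
    RHSingleIso S A p q ≪≫ (RFPlus.HR S p).mapIso (((CochainComplex.Plus.ι C).preimageIso ((CochainComplex.singleFunctor C 0).mapIso eq')))⟩

end Groth.Agent.SpObj

namespace Groth.Agent.SpObj

open Groth.Agent

variable {A : Type u} [Category.{v} A] [Abelian A] [EnoughInjectives A]
  {B : Type u} [Category.{v} B] [Abelian B] [EnoughInjectives B] [HasDerivedCategory.{w} B]
  {D : Type u'} [Category.{v'} D] [Abelian D] [HasDerivedCategory.{w'} D]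
  (T : A ⥤ B) [T.Additive] (S : B ⥤ D) [S.Additive] [PreservesFiniteLimits S]

/-- `T` applied to an injective resolution. -/
noncomputable def mapRes {X : A} (R : InjectiveResolution X) : CochainComplex.Plus B :=
  ⟨(T.mapHomologicalComplex (ComplexShape.up ℤ)).obj R.cochainComplex, 0, by
    rw [CochainComplex.isStrictlyGE_iff]
    exact fun i hi => T.map_isZero (CochainComplex.isZero_of_isStrictlyGE R.cochainComplex 0 i hi)⟩

omit [EnoughInjectives A] in
theorem isIso_θ_mapRes {X : A} (R : InjectiveResolution X)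
    (hT : ∀ Q : A, Injective Q → RFPlus.IsAcyclicObj S (T.obj Q)) (n : ℤ) :
    IsIso ((RFPlus.θ S n).app (mapRes T R)) := by
  have : CochainComplex.IsStrictlyGE (mapRes T R).obj 0 := by
    rw [CochainComplex.isStrictlyGE_iff]
    exact fun i hi => T.map_isZero (CochainComplex.isZero_of_isStrictlyGE R.cochainComplex 0 i hi)
  obtain ⟨L, j, hj, hL, hLge⟩ := CochainComplex.Plus.modelCategoryQuillen.exists_quasiIso_injective
    (mapRes T R).obj 0
  have : CochainComplex.IsStrictlyGE L (-1) := L.isStrictlyGE_of_ge (-1) 0 (by omega)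
  have : CochainComplex.IsStrictlyGE (mapRes T R).obj (-1 + 1) := by simpa
  let L' : CochainComplex.Plus B := ⟨L, 0, hLge⟩
  let j' : mapRes T R ⟶ L' := ObjectProperty.homMk j
  have : QuasiIso j'.hom := hj
  have : ∀ m, Injective (L'.obj.X m) := hL
  have h := (RFPlus.isIso_unit_iff S j').2 (RFPlus.quasiIso_map_of_acyclic_terms S j (-1)
    (fun m => hT _ inferInstance) (fun m => RFPlus.isAcyclicObj_injective S _))
  rw [RFPlus.isIso_θ_app_iff]
  infer_instance

theorem grothendieck_spectralSequence'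
    (hT : ∀ Q : A, Injective Q → RFPlus.IsAcyclicObj S (T.obj Q)) (X : A) (H : ℤ → D)
    (eH : ∀ n : ℕ, Nonempty (((T ⋙ S).rightDerived n).obj X ≅ H n))
    (hH : ∀ n : ℤ, n < 0 → IsZero (H n)) :
    ∃ (E : E₂CohomologicalSpectralSequence D) (a : SpSeq.Abutment E H),
      (∀ n, a.IsFinite n) ∧ SpSeq.IsBounded E ∧
      (∀ p q : ℕ, Nonempty ((E.page 2 le_rfl).X ((p : ℤ), (q : ℤ)) ≅
        (S.rightDerived p).obj ((T.rightDerived q).obj X))) ∧
      ∀ p q : ℤ, ¬(0 ≤ p ∧ 0 ≤ q) → IsZero ((E.page 2 le_rfl).X (p, q)) := by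
  let R := injectiveResolution X
  let K := DerivedCategory.Plus.Q.obj (mapRes T R)
  have hK0 : CochainComplex.IsStrictlyGE (mapRes T R).obj 0 := by
    rw [CochainComplex.isStrictlyGE_iff]
    exact fun i hi => T.map_isZero (CochainComplex.isZero_of_isStrictlyGE R.cochainComplex 0 i hi)
  let eQ : DerivedCategory.Plus.ι.obj K ≅ DerivedCategory.Q.obj (mapRes T R).obj :=
    (DerivedCategory.quotientCompQhIso B).app _
  have : K.IsGE 0 := by
    rw [← DerivedCategory.Plus.isGE_ι_obj_iff]
    exact DerivedCategory.TStructure.t.isGE_of_iso eQ.symm 0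
  obtain ⟨E, a, ha, hb, hz, hE⟩ := exists_spectralSequence S K H (fun n => by
      have := isIso_θ_mapRes T S R hT n
      refine ⟨(asIso ((RFPlus.θ S n).app (mapRes T R))).symm ≪≫ ?_⟩
      by_cases hn : 0 ≤ n
      · exact eqToIso (congrArg (fun i => HomologicalComplex.homology
            ((S.mapHomologicalComplex (ComplexShape.up ℤ)).obj (mapRes T R).obj) i)
            (Int.toNat_of_nonneg hn).symm) ≪≫
          RFPlus.homologyMapResolutionIso (T ⋙ S) R n.toNat ≪≫ (eH n.toNat).some ≪≫
            eqToIso (congrArg H (Int.toNat_of_nonneg hn))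
      · refine IsZero.iso ?_ (hH n (by omega))
        exact (HomologicalComplex.exactAt_iff_isZero_homology _ _).1
          (ShortComplex.exact_of_isZero_X₂ _
            (S.map_isZero (T.map_isZero
              (CochainComplex.isZero_of_isStrictlyGE R.cochainComplex 0 n (by omega))))))
  refine ⟨E, a, ha, hb, fun p q => ?_, fun p q h => hz p q (by omega)⟩
  obtain ⟨e₁⟩ := hE p q
  let e₂ : (DerivedCategory.Plus.homologyFunctor B q).obj K ≅ (T.rightDerived q).obj X :=
    (DerivedCategory.homologyFunctor B q).mapIso eQ ≪≫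
      (DerivedCategory.homologyFunctorFactors B q).app _ ≪≫
      RFPlus.homologyMapResolutionIso T R q
  exact ⟨e₁ ≪≫ (RFPlus.HR S p).mapIso
    ((CochainComplex.Plus.ι B).preimageIso ((CochainComplex.singleFunctor B 0).mapIso e₂) :
      RFPlus.sing _ ≅ RFPlus.sing ((T.rightDerived q).obj X)) ≪≫
    RFPlus.rightDerivedIso S _ p⟩

open scoped ZeroObject in
theorem grothendieck_spectralSequence
    (hT : ∀ Q : A, Injective Q → RFPlus.IsAcyclicObj S (T.obj Q)) (X : A) :
    ∃ (E : E₂CohomologicalSpectralSequence D)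
      (a : SpSeq.Abutment E (fun n : ℤ => if 0 ≤ n then ((T ⋙ S).rightDerived n.toNat).obj X else 0)),
      (∀ n, a.IsFinite n) ∧ SpSeq.IsBounded E ∧
      ∀ p q : ℤ, Nonempty ((E.page 2 le_rfl).X (p, q) ≅
        (if 0 ≤ p ∧ 0 ≤ q then (S.rightDerived p.toNat).obj ((T.rightDerived q.toNat).obj X) else 0)) := by
  obtain ⟨E, a, ha, hb, hE, hz⟩ := grothendieck_spectralSequence' T S hT X
    (fun n : ℤ => if 0 ≤ n then ((T ⋙ S).rightDerived n.toNat).obj X else 0)
    (fun n => ⟨eqToIso (by simp)⟩)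
    (fun n hn => by simp only [if_neg (not_le.2 hn)]; exact isZero_zero D)
  refine ⟨E, a, ha, hb, fun p q => ?_⟩
  by_cases hpq : 0 ≤ p ∧ 0 ≤ q
  · obtain ⟨m, rfl⟩ := Int.eq_ofNat_of_zero_le hpq.1
    obtain ⟨k, rfl⟩ := Int.eq_ofNat_of_zero_le hpq.2
    exact ⟨(hE m k).some ≪≫ eqToIso (by simp [hpq])⟩
  · exact ⟨(hz p q hpq).iso (by rw [if_neg hpq]; exact isZero_zero D)⟩

end Groth.Agent.SpObj
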