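import Groth.Prelude.Def_SpSeq
import Mathlib.Algebra.Homology.SpectralObject.EpiMono
import Mathlib.Algebra.Homology.SpectralObject.FirstPage
import Mathlib.CategoryTheory.Abelian.Refinements
import Mathlib.Order.Interval.Finset.Defs
import Mathlib.Data.Int.Interval

/-!
The abutment of the `E₂` spectral sequence of a first quadrant spectral object indexed by `EInt`.
-/

set_option autoImplicit false

universe v u

open CategoryTheory CategoryTheory.Limits ComposableArrows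

namespace Groth.Agent.SpObj

open CategoryTheory.Abelian CategoryTheory.Abelian.SpectralObject

variable {C : Type u} [Category.{v} C] [Abelian C] (Y : SpectralObject C EInt)

/-- The map `H^n(a ≤ j) ⟶ H^n(a ≤ b)`. -/
noncomputable def toEnd (n : ℤ) (a j b : EInt) (h₁ : a ≤ j) (h₂ : j ≤ b) :
    (Y.H n).obj (mk₁ (homOfLE h₁)) ⟶ (Y.H n).obj (mk₁ (homOfLE (h₁.trans h₂))) :=
  (Y.H n).map (twoδ₂Toδ₁' a j b h₁ h₂)

theorem toEnd_comp (n : ℤ) (a i j b : EInt) (h₁ : a ≤ i) (h₂ : i ≤ j) (h₃ : j ≤ b) :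
    (Y.H n).map (twoδ₂Toδ₁' a i j h₁ h₂) ≫ toEnd Y n a j b (h₁.trans h₂) h₃ =
      toEnd Y n a i b h₁ (h₂.trans h₃) := by
  rw [toEnd, toEnd, ← Functor.map_comp]
  congr 1

theorem isIso_H_map_congr (n : ℤ) {A B A' B' : ComposableArrows EInt 1} (f : A ⟶ B) (g : A' ⟶ B')
    (hA₀ : A.obj 0 = A'.obj 0) (hA₁ : A.obj 1 = A'.obj 1) (hB₀ : B.obj 0 = B'.obj 0)
    (hB₁ : B.obj 1 = B'.obj 1) (hg : IsIso ((Y.H n).map g)) : IsIso ((Y.H n).map f) := by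
  let eA : A ≅ A' := isoMk₁ (eqToIso hA₀) (eqToIso hA₁) (Subsingleton.elim _ _)
  let eB : B ≅ B' := isoMk₁ (eqToIso hB₀) (eqToIso hB₁) (Subsingleton.elim _ _)
  have : f = eA.hom ≫ g ≫ eB.inv := NatTrans.ext (funext fun _ => Subsingleton.elim _ _)
  rw [this, Functor.map_comp, Functor.map_comp]
  infer_instance

/-- Widening the outer indices does not change `E`, given vanishing. -/
theorem nonempty_E_iso_E_wide (n₀ n₁ n₂ : ℤ) (hn₁ : n₀ + 1 = n₁) (hn₂ : n₁ + 1 = n₂)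
    (a i₀ i₁ i₂ i₃ b : EInt) (ha : a ≤ i₀) (h₀₁ : i₀ ≤ i₁) (h₁₂ : i₁ ≤ i₂) (h₂₃ : i₂ ≤ i₃)
    (hb : i₃ ≤ b)
    (hl : ∀ m, IsZero ((Y.H m).obj (mk₁ (homOfLE ha))))
    (hr : ∀ m, m ≤ n₁ → IsZero ((Y.H m).obj (mk₁ (homOfLE hb)))) :
    Nonempty (Y.E (homOfLE h₀₁) (homOfLE h₁₂) (homOfLE h₂₃) n₀ n₁ n₂ hn₁ hn₂ ≅
      Y.E (homOfLE (ha.trans h₀₁)) (homOfLE h₁₂) (homOfLE (h₂₃.trans hb)) n₀ n₁ n₂ hn₁ hn₂) := by
  let α : mk₃ (homOfLE (ha.trans h₀₁)) (homOfLE h₁₂) (homOfLE h₂₃) ⟶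
      mk₃ (homOfLE h₀₁) (homOfLE h₁₂) (homOfLE h₂₃) :=
    homMk₃ (homOfLE ha) (𝟙 _) (𝟙 _) (𝟙 _) (Subsingleton.elim _ _) (Subsingleton.elim _ _)
      (Subsingleton.elim _ _)
  let β : mk₃ (homOfLE (ha.trans h₀₁)) (homOfLE h₁₂) (homOfLE h₂₃) ⟶
      mk₃ (homOfLE (ha.trans h₀₁)) (homOfLE h₁₂) (homOfLE (h₂₃.trans hb)) :=
    homMk₃ (𝟙 _) (𝟙 _) (𝟙 _) (homOfLE hb) (Subsingleton.elim _ _) (Subsingleton.elim _ _)
      (Subsingleton.elim _ _)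
  have h1 : IsIso (Y.map _ _ _ _ _ _ α n₀ n₁ n₂ hn₁ hn₂) := by
    refine Y.isIso_map _ _ _ _ _ _ α n₀ n₁ n₂ ?_ ?_ ?_ hn₁ hn₂
    · have : IsIso ((functorArrows EInt 2 3 3).map α) := by
        rw [isIso_iff₁]; constructor <;> exact ⟨homOfLE le_rfl, Subsingleton.elim _ _, Subsingleton.elim _ _⟩
      infer_instance
    · have : IsIso ((functorArrows EInt 1 2 3).map α) := by
        rw [isIso_iff₁]; constructor <;> exact ⟨homOfLE le_rfl, Subsingleton.elim _ _, Subsingleton.elim _ _⟩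
      infer_instance
    · exact isIso_H_map_congr Y n₂ _ _ rfl rfl rfl rfl
        (Y.isIso_H_map_twoδ₁Toδ₀' n₂ (n₂ + 1) rfl a i₀ i₁ ha h₀₁ (hl _) (hl _))
  have h2 : IsIso (Y.map _ _ _ _ _ _ β n₀ n₁ n₂ hn₁ hn₂) := by
    refine Y.isIso_map _ _ _ _ _ _ β n₀ n₁ n₂ ?_ ?_ ?_ hn₁ hn₂
    · have : IsIso ((Y.H n₀).map (twoδ₂Toδ₁' i₂ i₃ b h₂₃ hb)) := by
        have : Mono ((Y.H n₀).map (twoδ₂Toδ₁' i₂ i₃ b h₂₃ hb)) :=
          (Y.exact₁ (homOfLE h₂₃) (homOfLE hb) _ rfl (n₀ - 1) n₀).mono_g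
            ((hr _ (by omega)).eq_of_src _ _)
        have : Epi ((Y.H n₀).map (twoδ₂Toδ₁' i₂ i₃ b h₂₃ hb)) :=
          (Y.exact₂ (homOfLE h₂₃) (homOfLE hb) _ rfl n₀).epi_f
            ((hr _ (by omega)).eq_of_tgt _ _)
        exact isIso_of_mono_of_epi _
      exact isIso_H_map_congr Y n₀ _ _ rfl rfl rfl rfl this
    · have : IsIso ((functorArrows EInt 1 2 3).map β) := by
        rw [isIso_iff₁]; constructor <;> exact ⟨homOfLE le_rfl, Subsingleton.elim _ _, Subsingleton.elim _ _⟩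
      infer_instance
    · have : IsIso ((functorArrows EInt 0 1 3).map β) := by
        rw [isIso_iff₁]; constructor <;> exact ⟨homOfLE le_rfl, Subsingleton.elim _ _, Subsingleton.elim _ _⟩
      infer_instance
  exact ⟨(asIso (Y.map _ _ _ _ _ _ α n₀ n₁ n₂ hn₁ hn₂)).symm ≪≫
    asIso (Y.map _ _ _ _ _ _ β n₀ n₁ n₂ hn₁ hn₂)⟩

theorem imageSubobject_toEnd_le (n : ℤ) (a i j b : EInt) (h₁ : a ≤ i) (h₂ : i ≤ j) (h₃ : j ≤ b)
    {H : C} (φ : (Y.H n).obj (mk₁ (homOfLE (h₁.trans (h₂.trans h₃)))) ⟶ H) :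
    imageSubobject (toEnd Y n a i b h₁ (h₂.trans h₃) ≫ φ) ≤
      imageSubobject (toEnd Y n a j b (h₁.trans h₂) h₃ ≫ φ) :=
  SpSeq.FilCx.imageSubobject_le_of_fac ((Y.H n).map (twoδ₂Toδ₁' a i j h₁ h₂))
    (by rw [← Category.assoc, toEnd_comp])

/-- `E(a ≤ i₁ ≤ i₂ ≤ b)` is the quotient of the images in `H(a ≤ b)`. -/
theorem nonempty_E_wide_iso_subquot (n₀ n₁ n₂ : ℤ) (hn₁ : n₀ + 1 = n₁) (hn₂ : n₁ + 1 = n₂)
    (a i₁ i₂ b : EInt) (h₁ : a ≤ i₁) (h₂ : i₁ ≤ i₂) (h₃ : i₂ ≤ b)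
    {H : C} (φ : (Y.H n₁).obj (mk₁ (homOfLE (h₁.trans (h₂.trans h₃)))) ⟶ H) [Mono φ] :
    Nonempty (Y.E (homOfLE h₁) (homOfLE h₂) (homOfLE h₃) n₀ n₁ n₂ hn₁ hn₂ ≅
      SpSeq.subquot (imageSubobject (toEnd Y n₁ a i₂ b (h₁.trans h₂) h₃ ≫ φ))
        (imageSubobject (toEnd Y n₁ a i₁ b h₁ (h₂.trans h₃) ≫ φ))
        (imageSubobject_toEnd_le Y n₁ a i₁ i₂ b h₁ h₂ h₃ φ)) := by
  let m₁ := toEnd Y n₁ a i₁ b h₁ (h₂.trans h₃) ≫ φ
  let m₂ := toEnd Y n₁ a i₂ b (h₁.trans h₂) h₃ ≫ φ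
  let t := (Y.H n₁).map (twoδ₂Toδ₁' a i₁ i₂ h₁ h₂)
  let d := Y.δ (homOfLE (h₁.trans h₂)) (homOfLE h₃) n₀ n₁ hn₁
  let le := imageSubobject_toEnd_le Y n₁ a i₁ i₂ b h₁ h₂ h₃ φ
  let ι := (imageSubobject m₁).ofLE (imageSubobject m₂) le
  have ht : t ≫ m₂ = m₁ := by
    show t ≫ toEnd Y n₁ a i₂ b (h₁.trans h₂) h₃ ≫ φ = _
    rw [← Category.assoc, toEnd_comp]
  have hd : d ≫ m₂ = 0 := by
    have := Y.zero₁ (homOfLE (h₁.trans h₂)) (homOfLE h₃) _ rfl n₀ n₁ hn₁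
    exact (Category.assoc _ _ _).symm.trans ((congrArg (· ≫ φ) this).trans zero_comp)
  have hfac : factorThruImageSubobject m₁ ≫ ι = t ≫ factorThruImageSubobject m₂ := by
    rw [← cancel_mono (imageSubobject m₂).arrow, Category.assoc, Category.assoc,
      Subobject.ofLE_arrow, imageSubobject_arrow_comp, imageSubobject_arrow_comp, ht]
  have hd' : d ≫ factorThruImageSubobject m₂ = 0 := by
    rw [← cancel_mono (imageSubobject m₂).arrow, Category.assoc, imageSubobject_arrow_comp, hd,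
      zero_comp]
  let x := factorThruImageSubobject m₂ ≫ cokernel.π ι
  let S := ShortComplex.mk (biprod.desc t d) x (by
    ext
    · rw [biprod.inl_desc_assoc, comp_zero]
      exact (reassoc_of% hfac.symm) (cokernel.π ι) |>.trans (by rw [cokernel.condition, comp_zero])
    · rw [biprod.inr_desc_assoc, comp_zero]
      exact (reassoc_of% hd') _ |>.trans zero_comp)
  have hx : Epi S.g := by dsimp [S, x]; infer_instance
  have hS : S.Exact := by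
    rw [ShortComplex.exact_iff_exact_up_to_refinements]
    intro A z hz
    dsimp [S, x] at z hz
    obtain ⟨A₁, π₁, _, w, hw⟩ :=
      (ShortComplex.exact_cokernel ι).exact_up_to_refinements (z ≫ factorThruImageSubobject m₂)
        (by simpa using hz)
    dsimp at w hw
    obtain ⟨A₂, π₂, _, y, hy⟩ := surjective_up_to_refinements_of_epi (factorThruImageSubobject m₁) w
    have h0 : (π₂ ≫ π₁ ≫ z - y ≫ t) ≫ toEnd Y n₁ a i₂ b (h₁.trans h₂) h₃ = 0 := by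
      rw [← cancel_mono φ, zero_comp, Category.assoc]
      change (π₂ ≫ π₁ ≫ z - y ≫ t) ≫ m₂ = 0
      rw [Preadditive.sub_comp, sub_eq_zero, ← imageSubobject_arrow_comp m₂]
      simp only [Category.assoc]
      rw [reassoc_of% hw, reassoc_of% hy, ← reassoc_of% hfac]
    obtain ⟨A₃, π₃, _, v, hv⟩ := (Y.exact₁ (homOfLE (h₁.trans h₂)) (homOfLE h₃) _ rfl n₀ n₁
      hn₁).exact_up_to_refinements _ h0
    dsimp at v hv
    refine ⟨A₃, π₃ ≫ π₂ ≫ π₁, inferInstance, biprod.lift (π₃ ≫ y) v, ?_⟩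
    have hv' : π₃ ≫ (π₂ ≫ π₁ ≫ z - y ≫ t) = (v : A₃ ⟶ _) ≫ d := hv
    refine Eq.trans ?_ (biprod.lift_desc (f := π₃ ≫ y) (g := v) (h := t) (i := d)).symm
    rw [← hv']
    simp
  exact ⟨IsColimit.coconePointUniqueUpToIso
    (Y.cokernelSequenceE_exact (homOfLE h₁) (homOfLE h₂) (homOfLE h₃) (homOfLE (h₁.trans h₂)) rfl
      n₀ n₁ n₂ hn₁ hn₂).gIsCokernel hS.gIsCokernel⟩

variable {H : ℤ → C} (e : ∀ n, (Y.H n).obj (mk₁ (homOfLE (bot_le : (⊥ : EInt) ≤ ⊤))) ⟶ H n)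

/-- The filtration on the abutment. -/
noncomputable def fil (n p : ℤ) : Subobject (H n) :=
  imageSubobject (toEnd Y n ⊥ ((n - p + 1 : ℤ) : EInt) ⊤ bot_le le_top ≫ e n)

theorem fil_anti (n : ℤ) : Antitone (fil Y e n) := fun p q h =>
  imageSubobject_toEnd_le Y n ⊥ _ _ ⊤ bot_le
    (by simp only [WithBotTop.coe_le_coe]; omega) le_top (e n)

variable [Y.IsFirstQuadrant]

theorem isZero_page_X (r : ℤ) (hr : 2 ≤ r) (p q : ℤ) (h : p < 0 ∨ q < 0) :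
    IsZero ((Y.E₂SpectralSequence.page r hr).X (p, q)) := by
  refine Y.isZero_spectralSequence_page_X_of_isZero_H' _ _ hr _ ?_
  rcases h with h | h
  · exact Y.isZero₂_of_isFirstQuadrant _ _ _ _ (by simp; lia)
  · exact Y.isZero₁_of_isFirstQuadrant _ _ _ (by simp; lia) _

theorem isBounded : SpSeq.IsBounded Y.E₂SpectralSequence := fun n =>
  (Set.finite_Icc (0 : ℤ) n).subset fun p hp => by
    simp only [Set.mem_ofPred_eq] at hp
    rw [Set.mem_Icc]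
    by_contra hne
    exact hp (isZero_page_X Y 2 le_rfl p (n - p) (by omega))

theorem stationaryAt (pq : ℤ × ℤ) :
    SpSeq.StationaryAt Y.E₂SpectralSequence pq (max (max (pq.1 + 2) (pq.2 + 2)) 2) := by
  obtain ⟨p, q⟩ := pq
  refine ⟨le_max_right _ _, fun r h₀ hr => ?_⟩
  simp only [max_le_iff] at hr
  constructor
  · exact (isZero_page_X Y r h₀ _ _ (Or.inl (show p - r < 0 by omega))).eq_of_src _ _
  · exact (isZero_page_X Y r h₀ _ _ (Or.inr (show q + (1 - r) < 0 by omega))).eq_of_tgt _ _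

theorem nonempty_E_iso_grPiece [∀ n, Mono (e n)] (n p : ℤ) (n₀ n₂ : ℤ) (hn₁ : n₀ + 1 = n) (hn₂ : n + 1 = n₂)
    (i₀ i₁ i₂ i₃ : EInt) (hi₀ : i₀ ≤ (0 : ℤ)) (hi₁ : i₁ = ((n - (p + 1) + 1 : ℤ) : EInt))
    (hi₂ : i₂ = ((n - p + 1 : ℤ) : EInt)) (hi₃ : (n : EInt) < i₃)
    (h₀₁ : i₀ ≤ i₁) (h₁₂ : i₁ ≤ i₂) (h₂₃ : i₂ ≤ i₃) :
    Nonempty (Y.E (homOfLE h₀₁) (homOfLE h₁₂) (homOfLE h₂₃) n₀ n n₂ hn₁ hn₂ ≅
      SpSeq.grPiece (fil Y e n) (fil_anti Y e n) p) := by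
  subst hi₁ hi₂
  obtain ⟨e₁⟩ := nonempty_E_iso_E_wide Y n₀ n n₂ hn₁ hn₂ ⊥ i₀ _ _ i₃ ⊤ bot_le h₀₁ h₁₂ h₂₃ le_top
    (fun m => Y.isZero₁_of_isFirstQuadrant _ _ _ hi₀ m)
    (fun m hm => Y.isZero₂_of_isFirstQuadrant _ _ _ _ (lt_of_le_of_lt (by simpa using hm) hi₃))
  obtain ⟨e₂⟩ := nonempty_E_wide_iso_subquot Y n₀ n n₂ hn₁ hn₂ ⊥ _ _ ⊤ (bot_le.trans h₀₁) h₁₂
    (h₂₃.trans le_top) (e n)
  exact ⟨e₁ ≪≫ e₂⟩

theorem nonempty_page_iso_grPiece [∀ n, Mono (e n)] (pq : ℤ × ℤ) :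
    Nonempty ((Y.E₂SpectralSequence.page (max (max (pq.1 + 2) (pq.2 + 2)) 2) (stationaryAt Y pq).1).X pq ≅
      SpSeq.grPiece (fil Y e (pq.1 + pq.2)) (fil_anti Y e (pq.1 + pq.2)) pq.1) := by
  obtain ⟨p, q⟩ := pq
  obtain ⟨e₂⟩ := nonempty_E_iso_grPiece Y e (p + q) p (p + q - 1) (p + q + 1) (by omega) rfl
    ((q - max (max (p + 2) (q + 2)) 2 + 2 : ℤ) : EInt) ((q : ℤ) : EInt) ((q + 1 : ℤ) : EInt)
    ((q + max (max (p + 2) (q + 2)) 2 - 1 : ℤ) : EInt)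
    (by simp; omega) (congrArg _ (by omega)) (congrArg _ (by omega)) (by simp; omega)
    (by simp; omega) (by simp) (by simp; omega)
  exact ⟨Y.spectralSequencePageXIso coreE₂Cohomological _ (stationaryAt Y (p, q)).1 (p, q) _ _ _ _
    rfl rfl rfl rfl (p + q - 1) (p + q) (p + q + 1) rfl ≪≫ e₂⟩

/-- The abutment of the spectral sequence of a first quadrant spectral object. -/
theorem exists_abutment [∀ n, IsIso (e n)] :
    ∃ a : SpSeq.Abutment Y.E₂SpectralSequence H, ∀ n, a.IsFinite n := by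
  refine ⟨⟨fil Y e, fil_anti Y e, _, stationaryAt Y,
    fun pq => (nonempty_page_iso_grPiece Y e pq).some⟩, fun n => ⟨⟨0, ?_⟩, ⟨n + 1, ?_⟩⟩⟩
  · show fil Y e n 0 = ⊤
    have : Epi (toEnd Y n ⊥ ((n - 0 + 1 : ℤ) : EInt) ⊤ bot_le le_top) :=
      (Y.exact₂ (homOfLE bot_le) (homOfLE le_top) _ rfl n).epi_f
        ((Y.isZero₂_of_isFirstQuadrant _ _ _ n (by simp)).eq_of_tgt _ _)
    have : IsIso (fil Y e n 0).arrow := by
      dsimp only [fil]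
      have := epi_of_epi_fac
        (imageSubobject_arrow_comp (toEnd Y n ⊥ ((n - 0 + 1 : ℤ) : EInt) ⊤ bot_le le_top ≫ e n))
      exact isIso_of_mono_of_epi _
    exact Subobject.eq_top_of_isIso_arrow _
  · show fil Y e n (n + 1) = ⊥
    have h : toEnd Y n ⊥ ((n - (n + 1) + 1 : ℤ) : EInt) ⊤ bot_le le_top ≫ e n = 0 :=
      (Y.isZero₁_of_isFirstQuadrant _ _ _ (by simp) n).eq_of_src _ _
    simp only [fil, h, imageSubobject_zero]

/-- The second page. -/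
noncomputable def pageTwoIso (p q : ℤ) :
    (Y.E₂SpectralSequence.page 2 le_rfl).X (p, q) ≅
      (Y.H (p + q)).obj (mk₁ (homOfLE (show (q : EInt) ≤ ((q + 1 : ℤ) : EInt) by simp))) :=
  Y.spectralSequenceFirstPageXIso coreE₂Cohomological (p, q) _ _ rfl rfl _ rfl

end Groth.Agent.SpObj
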